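import Groth.Agent.H18Cech.InjectiveVanish
import Mathlib.CategoryTheory.Adjunction.Whiskering
import Mathlib.Algebra.Category.ModuleCat.Abelian
import Mathlib.LinearAlgebra.TensorProduct.Tower

/-!
# Čech cohomology of injective presheaves of modules vanishes

If `R : 𝒜 ⥤ Ab` has a left adjoint and `P` is an injective presheaf with values in `𝒜`, then the
Čech complex of `P ⋙ R` is acyclic in positive degrees.
-/

set_option autoImplicit false

universe w v u v₁ u₁

open CategoryTheory CategoryTheory.Limits Opposite Groth.Agent.H18Cech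

namespace Groth.Agent.H05EGA4.EtMod

set_option backward.isDefEq.respectTransparency false

variable {C : Type u} [Category.{v} C] [LocallySmall.{w} C] {U : C} [HasFiniteProducts (Over U)]
  {ι : Type w} (Y : ι → Over U)

theorem isZero_cechH_of_injective_comp {𝒜 : Type u₁} [Category.{v₁} 𝒜] [Abelian 𝒜]
    {L : AddCommGrpCat.{w} ⥤ 𝒜} {R : 𝒜 ⥤ AddCommGrpCat.{w}} (adj : L ⊣ R)
    (P : Cᵒᵖ ⥤ 𝒜) [Injective P] (n : ℕ) : IsZero (EtCech.cechH Y (P ⋙ R) (n + 1)) := by
  refine isZero_cechH_succ Y (P ⋙ R) fun x hx => ?_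
  let W := adj.whiskerRight Cᵒᵖ
  let Lw := (Functor.whiskeringRight Cᵒᵖ AddCommGrpCat.{w} 𝒜).obj L
  let xt : Lw.obj (F Y (n + 1)) ⟶ P := (W.homEquiv _ _).symm (toP Y (P ⋙ R) x)
  let β : Lw.obj (F Y (n + 1)) ⟶ Lw.obj (F Y n) := Lw.map (bd Y n)
  let e := Abelian.factorThruImage β
  have hkβ : kernel.ι e ≫ β = 0 := by
    refine (congrArg (kernel.ι e ≫ ·) (Abelian.image.fac β)).symm.trans ((Category.assoc _ _ _).symm.trans ?_)
    rw [kernel.condition, zero_comp]
  have hk : kernel.ι e ≫ xt = 0 := by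
    ext V : 2
    obtain ⟨φ, hφ⟩ := ker_bd_le Y (P ⋙ R) x hx V
    have hxV : xt.app V = L.map ((bd Y n).app V) ≫ (adj.homEquiv _ _).symm φ := by
      rw [← adj.homEquiv_naturality_left_symm, hφ]
      simp [xt, W, Adjunction.homEquiv_counit]
    rw [NatTrans.comp_app, hxV, ← Category.assoc]
    have h0 : (kernel.ι e).app V ≫ L.map ((bd Y n).app V) = 0 := congrArg (fun t => t.app V) hkβ
    rw [h0, zero_comp]
    exact ((evaluation Cᵒᵖ 𝒜).obj V).map_zero _ _ |>.symm
  let ψ₀ := Abelian.epiDesc e xt hk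
  let ψ : Lw.obj (F Y n) ⟶ P := Injective.factorThru ψ₀ (Abelian.image.ι β)
  obtain ⟨y, hy⟩ := exists_toP_eq Y (P ⋙ R) (W.homEquiv _ _ ψ)
  have h : bd Y n ≫ toP Y (P ⋙ R) y = toP Y (P ⋙ R) x := by
    rw [hy]
    refine (W.homEquiv_naturality_left _ _).symm.trans ?_
    rw [show toP Y (P ⋙ R) x = W.homEquiv _ _ xt from (Equiv.apply_symm_apply _ _).symm]
    refine congrArg _ ?_
    calc Lw.map (bd Y n) ≫ ψ = (e ≫ Abelian.image.ι β) ≫ ψ := by rw [Abelian.image.fac]
      _ = xt := by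
        rw [Category.assoc, Injective.comp_factorThru]
        exact Abelian.comp_epiDesc _ _ _
  refine ⟨y, hom_ext Y _ fun V g τ => ?_⟩
  let σ : Gen Y (n + 1) V := mkGen Y (idx τ) (liftT τ).left
  have hs : ∀ k, (σ.tuple k).1 = (τ k).1 := fun k => by
    refine Sigma.ext rfl (heq_of_eq ?_)
    show σ.hom ≫ _ = _
    rw [show σ.hom = (liftT τ).left from Equiv.symm_apply_apply _ _]
    exact congrArg (fun m : Over.mk g ⟶ (Y ∘ idx τ) k => m.left) (liftT_π τ k)
  rw [← ev_congr Y _ hs, ← ev_congr Y _ hs, ← toP_of Y _ x, ← h, ev_d]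
  simp only [NatTrans.comp_app, AddCommGrpCat.hom_comp, AddMonoidHom.comp_apply, bd,
    AddCommGrpCat.hom_ofHom]
  refine Eq.trans ?_ ((congrArg _ (FreeAbelianGroup.lift_apply_of _ _)).trans (map_sum _ _ _)).symm
  refine Finset.sum_congr rfl fun j _ => ?_
  refine Eq.trans ?_ ((map_zsmul _ _ _).trans (congrArg _ (toP_of Y _ y _))).symm
  refine congrArg (_ • ·) (ev_congr Y _ (fun k => ?_) y)
  let σ' : Gen Y n V := mkGen Y (σ.1 ∘ j.succAbove) (σ.hom ≫ (faceOver Y j σ.1).left)
  show (σ.tuple (j.succAbove k)).1 = (σ'.tuple k).1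
  refine Sigma.ext rfl (heq_of_eq ?_)
  show σ.hom ≫ _ = σ'.hom ≫ _
  rw [show σ'.hom = σ.hom ≫ (faceOver Y j σ.1).left from Equiv.symm_apply_apply _ _, Category.assoc]
  exact (congrArg (σ.hom ≫ ·) (congrArg (fun m : ∏ᶜ (Y ∘ σ.1) ⟶ (Y ∘ σ.1) (j.succAbove k) => m.left)
    (Pi.lift_π (fun i => Pi.π (Y ∘ σ.1) (j.succAbove i)) k))).symm

open TensorProduct

variable (Λ : Type w) [CommRing Λ]

/-- `A ↦ Λ ⊗ A`. -/
noncomputable def extend : AddCommGrpCat.{w} ⥤ ModuleCat.{w} Λ where
  obj A := ModuleCat.of Λ (Λ ⊗[ℤ] A)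
  map f := ModuleCat.ofHom (f.hom.toIntLinearMap.baseChange Λ)
  map_id A := by
    ext : 1
    refine TensorProduct.AlgebraTensorModule.ext fun c a => ?_
    simp
  map_comp f g := by
    ext : 1
    refine TensorProduct.AlgebraTensorModule.ext fun c a => ?_
    simp

/-- `Λ ⊗ -` is left adjoint to the forgetful functor. -/
noncomputable def extendAdj : extend Λ ⊣ forget₂ (ModuleCat.{w} Λ) AddCommGrpCat.{w} :=
  Adjunction.mkOfHomEquiv
    { homEquiv := fun A M =>
        { toFun := fun g => AddCommGrpCat.ofHom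
            (((LinearMap.liftBaseChangeEquiv (R := ℤ) (M := A) (N := M) Λ).symm g.hom).toAddMonoidHom)
          invFun := fun f => ModuleCat.ofHom (LinearMap.liftBaseChangeEquiv (R := ℤ) (N := M) Λ (AddMonoidHom.toIntLinearMap (M₂ := M) f.hom))
          left_inv := fun g => by
            ext : 1
            exact (congrArg _ (LinearMap.ext fun a => rfl)).trans
              ((LinearMap.liftBaseChangeEquiv Λ).apply_symm_apply g.hom)
          right_inv := fun f => by
            ext a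
            exact LinearMap.congr_fun
              ((LinearMap.liftBaseChangeEquiv (R := ℤ) (M := A) (N := M) Λ).symm_apply_apply (AddMonoidHom.toIntLinearMap (M₂ := M) f.hom)) a }
      homEquiv_naturality_left_symm := fun f g => by
        ext : 1
        refine TensorProduct.AlgebraTensorModule.ext fun c a => ?_
        simp [extend]
      homEquiv_naturality_right := fun f g => by
        ext a
        rfl }

theorem isZero_cechH_of_injective_modules (P : Cᵒᵖ ⥤ ModuleCat.{w} Λ) [Injective P] (n : ℕ) :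
    IsZero (EtCech.cechH Y (P ⋙ forget₂ (ModuleCat.{w} Λ) AddCommGrpCat.{w}) (n + 1)) :=
  isZero_cechH_of_injective_comp Y (extendAdj Λ) P n

end Groth.Agent.H05EGA4.EtMod
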