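import Groth.Prelude.Def_SixF2
import Groth.Agent.H05EGA4.EtMod.CechInj
import Groth.Agent.H18Et.Coh.QCAcyclic

/-!
# Injective sheaves of modules on the small étale site have no higher cohomology
-/

set_option autoImplicit false
set_option backward.isDefEq.respectTransparency false
set_option backward.isDefEq.respectTransparency.types false

universe u

open CategoryTheory CategoryTheory.Limits AlgebraicGeometry Opposite

namespace Groth.Agent.H05EGA4.EtMod

open scoped Groth.Agent.H18Et
open Groth.Agent.H18Et.QCAc (sections_left_exact)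

variable {X : Scheme.{u}}

/-- Čech acyclicity for every family. -/
def IsCAcyclic (G : EtCoh.Ab X) : Prop :=
  ∀ (U : X.Etale) [HasFiniteProducts (Over U)] (ι : Type (u + 1)) (Y : ι → Over U) (p : ℕ),
    IsZero (EtCech.cechH Y G.obj (p + 1))

theorem isCAcyclic_of_injective (G : EtCoh.Ab X) [Injective G] : IsCAcyclic G := fun U _ ι Y p => by
  haveI : Injective G.obj :=
    Injective.injective_of_adjoint (sheafificationAdjunction X.smallEtaleTopology AddCommGrpCat.{u + 1}) G
  exact Groth.Agent.H18Cech.isZero_cechH_of_injective Y _ p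

theorem isCAcyclic_forgetToAb (Λ : Type (u + 1)) [CommRing Λ] (I : EtModW.Mod Λ X) [Injective I] :
    IsCAcyclic ((EtModD.forgetToAb Λ X).obj I) := fun U _ ι Y p => by
  haveI : Injective I.obj :=
    Injective.injective_of_adjoint (sheafificationAdjunction X.smallEtaleTopology (ModuleCat.{u + 1} Λ)) I
  exact isZero_cechH_of_injective_modules Y Λ I.obj p

variable {S : ShortComplex (EtCoh.Ab X)}

/-- An epimorphism with Čech acyclic kernel is surjective on all sections. -/
theorem surjective_sections (hS : S.ShortExact) (h₁ : IsCAcyclic S.X₁) (W : X.Etale)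
    [HasFiniteProducts (Over W)] : Function.Surjective (S.g.hom.app (op W)) := by
  intro s
  haveI := hS.epi_g
  haveI : Sheaf.IsLocallySurjective S.g := (Sheaf.isLocallySurjective_iff_epi' _ S.g).2 inferInstance
  let T := Presheaf.imageSieve S.g.hom s
  have hT : T ∈ X.smallEtaleTopology W := Presheaf.imageSieve_mem _ S.g.hom s
  let ι : Type (u + 1) := Σ V : X.Etale, {g : V ⟶ W // T g}
  let Y : ι → Over W := fun i => Over.mk i.2.1
  have hgen : Sieve.generate (Presieve.ofArrows (fun i => (Y i).left) (fun i => (Y i).hom)) ∈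
      X.smallEtaleTopology W := by
    refine (X.smallEtaleTopology).superset_covering (fun V g hg => ?_) hT
    exact ⟨V, 𝟙 _, g, Presieve.ofArrows.mk (Y := fun i => (Y i).left) (⟨V, g, hg⟩ : ι), Category.id_comp _⟩
  have hsh : ∀ G : EtCoh.Ab X, Presieve.IsSheafFor (G.obj ⋙ CategoryTheory.forget AddCommGrpCat.{u + 1})
      (Presieve.ofArrows (fun i => (Y i).left) (fun i => (Y i).hom)) := fun G => by
    rw [Presieve.isSheafFor_iff_generate]
    exact ((isSheaf_iff_isSheaf_of_type _ _).1
      ((sheafCompose _ (CategoryTheory.forget AddCommGrpCat.{u + 1})).obj G).property) _ hgen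
  exact Groth.Agent.H18Cech.exists_lift_of_isZero (S := S.map (sheafToPresheaf _ _)) Y
    (fun V => (sections_left_exact hS V).1) (fun V => (sections_left_exact hS V).2) (hsh S.X₂)
    (hsh S.X₃).isSeparatedFor (h₁ W ι Y 0) s fun i => i.2.2

theorem hasFiniteProducts_over (W : X.Etale) : HasFiniteProducts (Over W) :=
  hasFiniteProducts_of_has_binary_and_terminal

theorem isCAcyclic_X₃ (hS : S.ShortExact) (h₁ : IsCAcyclic S.X₁) (h₂ : IsCAcyclic S.X₂) :
    IsCAcyclic S.X₃ := by
  intro U _ ι Y p
  have hT := Groth.Agent.H18Cech.shortExact_map (S := S.map (sheafToPresheaf _ _)) Y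
    (fun V => (sections_left_exact hS V).1) (fun V => (sections_left_exact hS V).2)
    fun n a => @surjective_sections _ _ hS h₁ _ (hasFiniteProducts_over _)
  exact (hT.homology_exact₃ (p + 1) (p + 1 + 1) rfl).isZero_of_both_zeros
    ((h₂ U ι Y p).eq_of_src _ _) ((h₁ U ι Y (p + 1)).eq_of_tgt _ _)

/-- Čech acyclic sheaves have no higher cohomology. -/
theorem subsingleton_H : ∀ (p : ℕ) (G : EtCoh.Ab X), IsCAcyclic G → Subsingleton (EtCoh.H X G (p + 1)) := by
  intro p
  induction p with
  | zero =>
    intro G hG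
    let S := ShortComplex.mk (Injective.ι G) (cokernel.π (Injective.ι G)) (cokernel.condition _)
    have hS : S.ShortExact := { exact := ShortComplex.exact_of_g_is_cokernel _ (cokernelIsCokernel _) }
    refine subsingleton_of_forall_eq 0 fun x => ?_
    obtain ⟨y, rfl⟩ := Abelian.Ext.covariant_sequence_exact₁ _ hS x (Abelian.Ext.eq_zero_of_injective _) rfl
    obtain ⟨φ, rfl⟩ := (Abelian.Ext.mk₀_bijective _ _).surjective y
    let hT := EtCore.topIsTerminal X
    haveI := hasFiniteProducts_over (EtCoh.top X)
    obtain ⟨s, hs⟩ := surjective_sections hS hG (EtCoh.top X)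
      (CategoryTheory.Sheaf.H.equiv₀ S.X₃ hT (Abelian.Ext.mk₀ φ))
    have h2 : CategoryTheory.Sheaf.H.map S.g 0 ((CategoryTheory.Sheaf.H.equiv₀ S.X₂ hT).symm s) =
        Abelian.Ext.mk₀ φ := by
      rw [CategoryTheory.Sheaf.H.equiv₀_symm_naturality, hs, AddEquiv.symm_apply_apply]
    rw [← h2, CategoryTheory.Sheaf.H.map_apply, Abelian.Ext.comp_assoc_of_second_deg_zero,
      hS.comp_extClass, Abelian.Ext.comp_zero]
  | succ p ih =>
    intro G hG
    let S := ShortComplex.mk (Injective.ι G) (cokernel.π (Injective.ι G)) (cokernel.condition _)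
    have hS : S.ShortExact := { exact := ShortComplex.exact_of_g_is_cokernel _ (cokernelIsCokernel _) }
    refine subsingleton_of_forall_eq 0 fun x => ?_
    obtain ⟨y, rfl⟩ := Abelian.Ext.covariant_sequence_exact₁ _ hS x (Abelian.Ext.eq_zero_of_injective _) rfl
    rw [(ih S.X₃ (isCAcyclic_X₃ hS hG (isCAcyclic_of_injective _))).elim y 0, Abelian.Ext.zero_comp]

/-- The underlying abelian sheaf of an injective sheaf of modules has no higher cohomology. -/
theorem subsingleton_H_forgetToAb (Λ : Type (u + 1)) [CommRing Λ] (I : EtModW.Mod Λ X) [Injective I] (p : ℕ) :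
    Subsingleton (EtCoh.H X ((EtModD.forgetToAb Λ X).obj I) (p + 1)) :=
  subsingleton_H p _ (isCAcyclic_forgetToAb Λ I)

end Groth.Agent.H05EGA4.EtMod
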